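import Groth.Agent.CAlgH3.FlatGrade
import Groth.Agent.CAlgH3.QuotientLocal
import Groth.Agent.CAlgH3.RegularCore
import Groth.Agent.InjMod14.Kosz.LciNear
import Groth.Agent.DimLib.Algebra
import Mathlib.RingTheory.RegularLocalRing.Polynomial
import Mathlib.RingTheory.Polynomial.Quotient

/-! Flatness of complete intersections in affine space over a Noetherian local ring. -/

set_option autoImplicit false
set_option linter.style.haveILetI false

universe u

open IsLocalRing RingTheory.Sequence

namespace Groth.Agent.Et18.Thick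

open Groth.Agent

/-- The local criterion for a sequence regular on the closed fibre. -/
theorem flat_quotient_of_fibre {A : Type u} [CommRing A] [IsLocalRing A] [IsNoetherianRing A] :
    ∀ (n : ℕ) (B : Type u) [CommRing B] [IsLocalRing B] [IsNoetherianRing B] [Algebra A B]
      [IsLocalHom (algebraMap A B)] [Module.Flat A B] (rs : List B), rs.length = n →
      (∀ r ∈ rs, r ∈ maximalIdeal B) →
      IsWeaklyRegular (B ⧸ (maximalIdeal A).map (algebraMap A B))
        (rs.map (algebraMap B (B ⧸ (maximalIdeal A).map (algebraMap A B)))) →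
      Module.Flat A (B ⧸ Ideal.ofList rs) := by
  intro n
  induction n with
  | zero =>
    intro B _ _ _ _ _ _ rs hn _ _
    rw [List.length_eq_zero_iff.1 hn, Ideal.ofList_nil]
    exact Module.Flat.of_linearEquiv ((AlgEquiv.quotientBot A B).toLinearEquiv)
  | succ n ih =>
    intro B _ _ _ _ _ _ rs hn hmem h
    obtain ⟨y, rs, rfl⟩ : ∃ y rs', rs = y :: rs' := by
      cases rs with
      | nil => simp at hn
      | cons y rs => exact ⟨y, rs, rfl⟩
    set 𝔞 := (maximalIdeal A).map (algebraMap A B)
    rw [isWeaklyRegular_map_algebraMap_iff, isWeaklyRegular_cons_iff] at h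
    obtain ⟨hy, hrest⟩ := h
    haveI := CAlgH3.flat_quotient_span_of_fibre (A := A) hy
    have hyne : Ideal.span {y} ≠ (⊤ : Ideal B) := fun e => (maximalIdeal.isMaximal B).ne_top
      (top_le_iff.1 (e ▸ (Ideal.span_singleton_le_iff_mem _).2 (hmem y List.mem_cons_self)))
    haveI : Nontrivial (B ⧸ Ideal.span {y}) := Ideal.Quotient.nontrivial_iff.2 hyne
    haveI : IsLocalRing (B ⧸ Ideal.span {y}) := IsLocalRing.of_surjective' (Ideal.Quotient.mk _) Ideal.Quotient.mk_surjective
    haveI hloc : IsLocalHom (algebraMap B (B ⧸ Ideal.span {y})) :=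
      IsLocalHom.of_surjective _ Ideal.Quotient.mk_surjective
    haveI : IsLocalHom (algebraMap A (B ⧸ Ideal.span {y})) := ⟨fun a ha => by
      rw [IsScalarTower.algebraMap_apply A B (B ⧸ Ideal.span {y})] at ha
      exact (isUnit_map_iff (algebraMap A B) a).1 ((isUnit_map_iff (algebraMap B (B ⧸ Ideal.span {y})) _).1 ha)⟩
    have key := ih (B ⧸ Ideal.span {y}) (rs.map (algebraMap B (B ⧸ Ideal.span {y}))) (by simpa using hn) ?_ ?_
    · have e1 : Ideal.ofList (y :: rs) = Ideal.span {y} ⊔ Ideal.ofList rs := Ideal.ofList_cons _ _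
      have e2 : Ideal.ofList (rs.map (algebraMap B (B ⧸ Ideal.span {y}))) =
          (Ideal.ofList rs).map (Ideal.Quotient.mkₐ A (Ideal.span {y})) := by
        show _ = (Ideal.ofList rs).map (algebraMap B (B ⧸ Ideal.span {y}))
        rw [Ideal.map_ofList]
      haveI := key
      exact Module.Flat.of_linearEquiv (((Ideal.quotientEquivAlgOfEq A e1).trans
        ((DoubleQuot.quotQuotEquivQuotSupₐ A (Ideal.span {y}) (Ideal.ofList rs)).symm.trans
          (Ideal.quotientEquivAlgOfEq A e2.symm))).toLinearEquiv)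
    · intro r hr
      obtain ⟨r', hr', rfl⟩ := List.mem_map.1 hr
      exact fun hu => hmem r' (List.mem_cons_of_mem _ hr') ((isUnit_map_iff (algebraMap B (B ⧸ Ideal.span {y})) r').1 hu)
    · set 𝔟 := (maximalIdeal A).map (algebraMap A (B ⧸ Ideal.span {y}))
      have e1 : 𝔟 = 𝔞.map (algebraMap B (B ⧸ Ideal.span {y})) := by
        rw [Ideal.map_map, ← IsScalarTower.algebraMap_eq]
      rw [isWeaklyRegular_map_algebraMap_iff, isWeaklyRegular_map_algebraMap_iff]
      let g : B →ₗ[B] (B ⧸ Ideal.span {y}) ⧸ 𝔟 :=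
        ((Submodule.mkQ 𝔟).restrictScalars B).comp (Submodule.mkQ (Ideal.span {y} : Ideal B))
      have hg : Function.Surjective g := (Submodule.mkQ_surjective _).comp (Submodule.mkQ_surjective _)
      have hker : LinearMap.ker g = Ideal.span {y} ⊔ 𝔞 := by
        ext b
        rw [LinearMap.mem_ker]
        show Submodule.Quotient.mk (Ideal.Quotient.mk (Ideal.span {y}) b) = 0 ↔ _
        rw [Submodule.Quotient.mk_eq_zero, e1, Ideal.Quotient.algebraMap_eq,
          Ideal.mem_quotient_iff_mem_sup, sup_comm]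
      let f : B →ₗ[B] QuotSMulTop y (B ⧸ 𝔞) := (Submodule.mkQ _).comp (Submodule.mkQ 𝔞)
      have hf : Function.Surjective f := (Submodule.mkQ_surjective _).comp (Submodule.mkQ_surjective _)
      have hfker : LinearMap.ker f = Ideal.span {y} ⊔ 𝔞 := by
        rw [LinearMap.ker_comp, Submodule.ker_mkQ]
        ext b
        rw [Submodule.mem_comap, Submodule.mem_smul_pointwise_iff_exists, Ideal.mem_span_singleton_sup]
        constructor
        · rintro ⟨z, -, hz⟩
          obtain ⟨c, rfl⟩ := Submodule.Quotient.mk_surjective 𝔞 z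
          rw [Submodule.mkQ_apply, ← Submodule.Quotient.mk_smul, Submodule.Quotient.eq] at hz
          exact ⟨c, b - y * c, by simpa [neg_sub] using 𝔞.neg_mem hz, by rw [mul_comm c y, add_sub_cancel]⟩
        · rintro ⟨c, a, ha, rfl⟩
          refine ⟨Submodule.Quotient.mk c, trivial, ?_⟩
          rw [Submodule.mkQ_apply, ← Submodule.Quotient.mk_smul, Submodule.Quotient.eq]
          simpa [mul_comm] using ha
      exact (LinearEquiv.isWeaklyRegular_congr ((f.quotKerEquivOfSurjective hf).symm ≪≫ₗ
        Submodule.quotEquivOfEq _ _ (hfker.trans hker.symm) ≪≫ₗ g.quotKerEquivOfSurjective hg) rs).1 hrest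

/-- `R / m R` for `R = A[x]` is a polynomial ring over the residue field. -/
theorem height_fibre_le {k : Type u} [Field k] {σ : Type} [Finite σ] {r n : ℕ} (hσ : r + n = Nat.card σ)
    (J : Ideal (MvPolynomial σ k)) (hdim : ringKrullDim (MvPolynomial σ k ⧸ J) ≤ n)
    (Q : Ideal (MvPolynomial σ k)) [Q.IsPrime] (hQ : J ≤ Q) : (r : ℕ∞) ≤ Q.height := by
  have h := DimLib.height_add_ringKrullDim_quotient (k := k) Q
  rw [MvPolynomial.ringKrullDim_of_isNoetherianRing, ringKrullDim_eq_zero_of_field, zero_add, ← hσ] at h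
  have h2 : ringKrullDim (MvPolynomial σ k ⧸ Q) ≤ n :=
    (ringKrullDim_le_of_surjective _ (Ideal.Quotient.factor_surjective hQ)).trans hdim
  generalize Q.height = x at h ⊢
  induction x using ENat.recTopCoe with
  | top => exact le_top
  | coe x =>
    generalize ringKrullDim (MvPolynomial σ k ⧸ Q) = d at h h2
    induction d using WithBot.recBotCoe with
    | bot =>
      rw [WithBot.add_bot] at h
      exact absurd h.symm (by exact_mod_cast WithBot.coe_ne_bot)
    | coe d =>
      induction d using ENat.recTopCoe with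
      | top => exact absurd h2 (by rw [not_le]; exact_mod_cast ENat.coe_lt_top n)
      | coe d =>
        have h1 : x + d = r + n := by exact_mod_cast h
        have h2' : d ≤ n := by exact_mod_cast h2
        exact_mod_cast (show r ≤ x by omega)

/-- A complete intersection in affine space is flat at the points of the closed fibre. -/
theorem flat_localization_ci {A : Type u} [CommRing A] [IsLocalRing A] [IsNoetherianRing A]
    {σ : Type} [Finite σ] {r n : ℕ} (hσ : r + n = Nat.card σ) (f : Fin r → MvPolynomial σ A)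
    (hdim : ringKrullDim (MvPolynomial σ (ResidueField A) ⧸
      Ideal.span (Set.range fun i => MvPolynomial.map (residue A) (f i))) ≤ n)
    (q : Ideal (MvPolynomial σ A ⧸ Ideal.span (Set.range f))) [q.IsPrime]
    (hq : maximalIdeal A ≤ q.comap (algebraMap A (MvPolynomial σ A ⧸ Ideal.span (Set.range f)))) :
    Module.Flat A (Localization.AtPrime q) := by
  let R₀ := MvPolynomial σ A
  let I : Ideal R₀ := Ideal.span (Set.range f)
  let P : Ideal R₀ := q.comap (Ideal.Quotient.mk I)
  let B := Localization.AtPrime P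
  haveI : Module.Flat A B := Module.Flat.trans A R₀ B
  haveI hP : IsLocalHom (algebraMap A B) := by
    refine ⟨fun a ha => by_contra fun hu => ?_⟩
    have h1 : algebraMap A R₀ a ∈ P := hq hu
    rw [IsScalarTower.algebraMap_apply A R₀ B] at ha
    exact (IsLocalization.AtPrime.isUnit_to_map_iff B P _).1 ha h1
  let g : Fin r → B := fun i => algebraMap R₀ B (f i)
  have hgmem : ∀ i, f i ∈ P := fun i => by
    show Ideal.Quotient.mk I (f i) ∈ q
    rw [Ideal.Quotient.eq_zero_iff_mem.2 (Ideal.subset_span (Set.mem_range_self i))]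
    exact zero_mem q
  let π : R₀ →+* MvPolynomial σ (ResidueField A) := MvPolynomial.map (residue A)
  have hπ : Function.Surjective π := MvPolynomial.map_surjective _ residue_surjective
  have hπker : RingHom.ker π = (maximalIdeal A).map (algebraMap A R₀) := by
    rw [MvPolynomial.ker_map, ker_residue, MvPolynomial.algebraMap_eq]
  let 𝔞₀ : Ideal R₀ := (maximalIdeal A).map (algebraMap A R₀)
  have h𝔞 : 𝔞₀ ≤ P := Ideal.map_le_iff_le_comap.2 hq
  let eπ : (R₀ ⧸ 𝔞₀) ≃+* MvPolynomial σ (ResidueField A) :=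
    (Ideal.quotEquivOfEq hπker.symm).trans (RingHom.quotientKerEquivOfSurjective hπ)
  let Q : Ideal (R₀ ⧸ 𝔞₀) := P.map (Ideal.Quotient.mk 𝔞₀)
  haveI hQp : Q.IsPrime := Ideal.map_isPrime_of_surjective Ideal.Quotient.mk_surjective (by rw [Ideal.mk_ker]; exact h𝔞)
  have hQc : Q.comap (Ideal.Quotient.mk 𝔞₀) = P := by
    rw [Ideal.comap_map_of_surjective _ Ideal.Quotient.mk_surjective, ← RingHom.ker_eq_comap_bot, Ideal.mk_ker,
      sup_eq_left.2 h𝔞]
  let Q' : Ideal (MvPolynomial σ (ResidueField A)) := Q.comap eπ.symm.toRingHom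
  let C := B ⧸ (maximalIdeal A).map (algebraMap A B)
  haveI : Nontrivial C := Ideal.Quotient.nontrivial_iff.2 (ne_top_of_le_ne_top (maximalIdeal.isMaximal B).ne_top
    (((local_hom_TFAE (algebraMap A B)).out 0 2 rfl rfl).1 hP))
  haveI : IsLocalRing C := IsLocalRing.of_surjective' (Ideal.Quotient.mk _) Ideal.Quotient.mk_surjective
  have hm : 𝔞₀.map (algebraMap R₀ B) = (maximalIdeal A).map (algebraMap A B) := by
    rw [Ideal.map_map, ← IsScalarTower.algebraMap_eq]
  let T := Localization.AtPrime Q'
  have hloc : ∃ ε : C ≃+* T, ∀ b : R₀, ε (Ideal.Quotient.mk _ (algebraMap R₀ B b)) =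
      algebraMap (MvPolynomial σ (ResidueField A)) T (π b) := by
    haveI h := CAlgH3.isLocalization_atPrime_quotient 𝔞₀ Q
    revert h
    rw! [hQc]
    intro h
    haveI := h
    haveI hQ'eq : Submonoid.map eπ.toMonoidHom Q.primeCompl = Q'.primeCompl := by
      ext z
      constructor
      · rintro ⟨y, hy, rfl⟩
        show eπ.symm (eπ y) ∉ Q
        rwa [eπ.symm_apply_apply]
      · intro hz
        exact ⟨eπ.symm z, hz, eπ.apply_symm_apply z⟩
    refine ⟨(Ideal.quotEquivOfEq hm.symm).trans
      (IsLocalization.ringEquivOfRingEquiv (B ⧸ 𝔞₀.map (algebraMap R₀ B)) T eπ hQ'eq), fun b => ?_⟩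
    show IsLocalization.ringEquivOfRingEquiv (B ⧸ 𝔞₀.map (algebraMap R₀ B)) T eπ hQ'eq
      (algebraMap (R₀ ⧸ 𝔞₀) (B ⧸ 𝔞₀.map (algebraMap R₀ B)) (Ideal.Quotient.mk 𝔞₀ b)) = _
    rw [IsLocalization.ringEquivOfRingEquiv_eq]
    rfl
  obtain ⟨ε, hε⟩ := hloc
  haveI : IsRegularLocalRing T := IsRegularRing.isRegularLocalRing_localization Q'
  haveI : LocCoh.IsCohenMacaulayLocalRing T := CAlgH3.isCohenMacaulayLocalRing_of_regular T
  haveI : LocCoh.IsCohenMacaulayLocalRing C := CAlgH3.isCohenMacaulayLocalRing_of_ringEquiv ε.symm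
  let gb : Fin r → C := fun i => Ideal.Quotient.mk _ (g i)
  have hgb : ∀ i, gb i ∈ maximalIdeal C := fun i hu => by
    haveI : IsLocalHom (Ideal.Quotient.mk ((maximalIdeal A).map (algebraMap A B))) :=
      IsLocalHom.of_surjective _ Ideal.Quotient.mk_surjective
    exact (IsLocalization.AtPrime.isUnit_to_map_iff B P (f i)).1 ((isUnit_map_iff _ _).1 hu) (hgmem i)
  let J : Ideal (MvPolynomial σ (ResidueField A)) := Ideal.span (Set.range fun i => π (f i))
  have hht : (r : ℕ∞) ≤ Ideal.height (R := C) (Ideal.span (Set.range gb)) := by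
    have e : (Ideal.span (Set.range gb)).map ε.toRingHom = J.map (algebraMap _ T) := by
      rw [Ideal.map_span, Ideal.map_span, ← Set.range_comp, ← Set.range_comp]
      exact congrArg _ (congrArg _ (funext fun i => hε (f i)))
    rw [← RingEquiv.height_map ε (Ideal.span (Set.range gb))]
    refine le_trans ?_ (le_of_eq (congrArg Ideal.height e.symm))
    show (r : ℕ∞) ≤ Ideal.height (R := T) (J.map (algebraMap _ T))
    rw [Ideal.height_eq_inf_minimalPrimes]
    refine le_iInf₂ fun p hp => ?_
    haveI := hp.1.1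
    rw [← IsLocalization.height_under Q'.primeCompl p]
    exact height_fibre_le hσ J hdim _ (Ideal.map_le_iff_le_comap.1 hp.1.2)
  have hreg : IsWeaklyRegular C ((List.ofFn g).map (algebraMap B C)) := by
    rw [List.map_ofFn]
    exact InjMod14.Kosz.isWeaklyRegular_of_le_height gb hgb hht
  haveI := flat_quotient_of_fibre r B (List.ofFn g) (List.length_ofFn) (fun z hz => by
    obtain ⟨i, rfl⟩ := (List.mem_ofFn' _ _).1 hz
    exact (IsLocalization.AtPrime.to_map_mem_maximal_iff B P _).2 (hgmem i)) hreg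
  have hI : Ideal.ofList (List.ofFn g) = I.map (algebraMap R₀ B) := by
    rw [Ideal.map_span, ← Set.range_comp, Ideal.ofList]
    congr 1
    ext z
    simp [List.mem_ofFn, g]
  haveI := CAlgH3.isLocalization_atPrime_quotient I q
  haveI : IsScalarTower A (R₀ ⧸ I) (B ⧸ I.map (algebraMap R₀ B)) :=
    .of_algebraMap_eq fun a => (show algebraMap A (B ⧸ I.map (algebraMap R₀ B)) a =
      algebraMap (R₀ ⧸ I) (B ⧸ I.map (algebraMap R₀ B)) (algebraMap A (R₀ ⧸ I) a) from rfl)
  exact Module.Flat.of_linearEquiv ((Ideal.quotientEquivAlgOfEq A hI).trans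
    ((IsLocalization.algEquiv q.primeCompl (B ⧸ I.map (algebraMap R₀ B)) (Localization.AtPrime q)).restrictScalars A)).toLinearEquiv.symm

end Groth.Agent.Et18.Thick
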