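import Groth.Agent.DimLib.ProjCover
import Groth.Agent.DimLib.ProjDim
import Mathlib.RingTheory.LocalRing.ResidueField.Basic

/-! Lifting forms which cut down the closed fibre of a closed subscheme of `P^N` in the right dimension. -/

set_option autoImplicit false
set_option linter.style.haveILetI false

universe u

open CategoryTheory AlgebraicGeometry MvPolynomial IsLocalRing

namespace Groth.Agent.Et18.Thick

open Groth.Agent Groth.Agent.DimLib Groth.Agent.DimLib.PN

variable {N : ℕ}

theorem ptDim_le {k : Type u} [Field k] (x : ProjectiveSpectrum (CohB1.polyGrading N k)) :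
    ptDim (CohB1.ProjSpace.toSpec N k) (pt x) ≤ N := by
  have h1 := ptDim_add_one x
  have h2 := cdim_le (p := (⊥ : Ideal (MvPolynomial (Fin (N + 1)) k))) Ideal.isPrime_bot x.isPrime bot_le
  rw [cdim_bot] at h2
  omega

theorem mem_radical_of_forall_point {k : Type u} [Field k] (I : Ideal (MvPolynomial (Fin (N + 1)) k))
    (hI : I.IsHomogeneous (CohB1.polyGrading N k)) {h : MvPolynomial (Fin (N + 1)) k} {D : ℕ}
    (hD : 0 < D) (hh : h.IsHomogeneous D)
    (hv : ∀ y : ProjectiveSpectrum (CohB1.polyGrading N k), I ≤ y.asHomogeneousIdeal.toIdeal →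
      h ∈ y.asHomogeneousIdeal.toIdeal) : h ∈ I.radical := by
  rw [← Ideal.sInf_minimalPrimes, Ideal.mem_sInf]
  intro Q hQ
  by_cases hm : Q = m0 N k
  · exact hm ▸ mem_m0_of_homogeneous hh hD
  obtain ⟨y, rfl⟩ := exists_point hQ.1.1 (isHomogeneous_of_mem_minimalPrimes hI hQ) hm
  exact hv y hQ.1.2

/-- Forms in `J` cutting the closed fibre down to dimension `n`. -/
theorem exists_forms {A : Type u} [CommRing A] [IsLocalRing A] (J : Ideal (MvPolynomial (Fin (N + 1)) A))
    (hJ : J.IsHomogeneous (CohB1.polyGrading N A)) (n r : ℕ) (hrn : r + n = N)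
    (hC : ∀ y : ProjectiveSpectrum (CohB1.polyGrading N (ResidueField A)),
      J.map (MvPolynomial.map (residue A)) ≤ y.asHomogeneousIdeal.toIdeal →
        ptDim (CohB1.ProjSpace.toSpec N (ResidueField A)) (pt y) ≤ n) :
    ∃ (H : Fin r → MvPolynomial (Fin (N + 1)) A) (d : Fin r → ℕ),
      (∀ j, 0 < d j ∧ (H j).IsHomogeneous (d j) ∧ H j ∈ J) ∧
      ∀ y : ProjectiveSpectrum (CohB1.polyGrading N (ResidueField A)),
        (∀ j, MvPolynomial.map (residue A) (H j) ∈ y.asHomogeneousIdeal.toIdeal) →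
          ptDim (CohB1.ProjSpace.toSpec N (ResidueField A)) (pt y) ≤ n := by
  classical
  let Jb := J.map (MvPolynomial.map (residue A))
  have hJb : Jb.IsHomogeneous (CohB1.polyGrading N (ResidueField A)) := by
    obtain ⟨E, rfl⟩ := (Ideal.IsHomogeneous.iff_exists _ J).1 hJ
    show (Ideal.map _ (Ideal.span _)).IsHomogeneous _
    rw [Ideal.map_span]
    refine span_isHomogeneous ?_
    rintro _ ⟨_, ⟨e, -, rfl⟩, rfl⟩
    obtain ⟨d, hd⟩ := e.2
    exact ⟨d, MvPolynomial.IsHomogeneous.map hd _⟩
  suffices key : ∀ j, j ≤ r → ∃ (H : Fin j → MvPolynomial (Fin (N + 1)) A) (d : Fin j → ℕ),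
      (∀ i, 0 < d i ∧ (H i).IsHomogeneous (d i) ∧ H i ∈ J) ∧
      ∀ y : ProjectiveSpectrum (CohB1.polyGrading N (ResidueField A)),
        (∀ i, MvPolynomial.map (residue A) (H i) ∈ y.asHomogeneousIdeal.toIdeal) →
          ptDim (CohB1.ProjSpace.toSpec N (ResidueField A)) (pt y) + j ≤ N by
    obtain ⟨H, d, h1, h2⟩ := key r le_rfl
    exact ⟨H, d, h1, fun y hy => by have := h2 y hy; omega⟩
  intro j
  induction j with
  | zero => exact fun _ => ⟨fun i => i.elim0, fun i => i.elim0, fun i => i.elim0, fun y _ => ptDim_le y⟩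
  | succ j ih =>
    intro hj
    obtain ⟨H, d, h1, h2⟩ := ih (by omega)
    let πP := CohB1.ProjSpace.toSpec N (ResidueField A)
    let E : Set (MvPolynomial (Fin (N + 1)) (ResidueField A)) := Set.range fun i => MvPolynomial.map (residue A) (H i)
    let W : Set ↥(CohB1.ProjSpace N (ResidueField A)) := ProjectiveSpectrum.zeroLocus _ E
    let C : Set (ProjectiveSpectrum (CohB1.polyGrading N (ResidueField A))) :=
      ProjectiveSpectrum.zeroLocus _ (Jb : Set (MvPolynomial (Fin (N + 1)) (ResidueField A)))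
    have hWc : IsClosed W := ProjectiveSpectrum.isClosed_zeroLocus _ _
    haveI : IsLocallyNoetherian (CohB1.ProjSpace N (ResidueField A)) := LocallyOfFiniteType.isLocallyNoetherian πP
    haveI : CompactSpace (CohB1.ProjSpace N (ResidueField A)) := QuasiCompact.compactSpace_of_compactSpace πP
    haveI : AlgebraicGeometry.IsNoetherian (CohB1.ProjSpace N (ResidueField A)) := {}
    let T₀ : Set ↥(CohB1.ProjSpace N (ResidueField A)) := {z | z ∈ W ∧ ptDim πP z + j = N}
    have hfin : T₀.Finite := by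
      obtain ⟨F, hF, hFZ⟩ := TopologicalSpace.NoetherianSpace.exists_finite_set_isClosed_irreducible hWc
      refine (hF.biUnion fun t ht => (Set.Subsingleton.finite
        (s := {g : ↥(CohB1.ProjSpace N (ResidueField A)) | IsGenericPoint g t}) fun a ha b hb => ha.eq hb)).subset
        fun z hz => ?_
      obtain ⟨t, ht, hzt⟩ := (hFZ.2.2 ▸ hz.1 : z ∈ ⋃₀ F)
      obtain ⟨g, hg⟩ := QuasiSober.sober (hFZ.2.1 t ht) (hFZ.1 t ht)
      have hgW : g ∈ W := hFZ.2.2 ▸ ⟨t, ht, hg.mem⟩
      have hgd : ptDim πP g + j ≤ N := h2 g fun i => hgW ⟨i, rfl⟩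
      have hz2 : ptDim πP z + j = N := hz.2
      have := eq_of_specializes_of_ptDim_le πP (hg.specializes hzt) (by omega)
      subst this
      exact Set.mem_biUnion ht hg
    obtain ⟨h, D, hD, hh, hhC, hhT⟩ := exists_form_avoid C (ProjectiveSpectrum.isClosed_zeroLocus _ _) hfin.toFinset
      (fun z hz hzC => by
        have h3 := hC z hzC
        have h4 : ptDim πP (pt z) + j = N := (hfin.mem_toFinset.1 hz).2
        change ptDim (CohB1.ProjSpace.toSpec N (ResidueField A)) (pt z) + j = N at h4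
        omega)
      (fun z hz w hw hne hwz => by
        have h3 : ptDim πP (pt z) < ptDim πP (pt w) :=
          ptDim_lt_of_specializes πP (hwz : (pt w) ⤳ (pt z)) (fun e => hne e.symm)
        have h4 : ptDim πP (pt z) + j = N := (hfin.mem_toFinset.1 hz).2
        have h5 : ptDim πP (pt w) + j = N := (hfin.mem_toFinset.1 hw).2
        omega)
    obtain ⟨m, hm⟩ : h ∈ Jb.radical := mem_radical_of_forall_point Jb hJb hD hh fun y hy => hhC y hy
    obtain ⟨a, haJ, ha⟩ := (Ideal.mem_map_iff_of_surjective (MvPolynomial.map (residue A))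
      (MvPolynomial.map_surjective _ residue_surjective)).1 (Jb.mul_mem_left h hm)
    rw [← pow_succ'] at ha
    let H0 := homogeneousComponent (D * (m + 1)) a
    have hH0 : MvPolynomial.map (residue A) H0 = h ^ (m + 1) := by
      have hpow : (h ^ (m + 1)).IsHomogeneous (D * (m + 1)) := hh.pow (m + 1)
      conv_rhs => rw [← (homogeneousComponent_of_mem hpow).trans (if_pos rfl), ← ha]
      ext c
      simp only [H0, coeff_map, coeff_homogeneousComponent, apply_ite (residue A), map_zero]
    refine ⟨Fin.cons H0 H, Fin.cons (D * (m + 1)) d,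
      Fin.cases ⟨Nat.mul_pos hD m.succ_pos, homogeneousComponent_isHomogeneous _ _, homogeneousComponent_mem_of_mem hJ haJ _⟩ h1,
      fun y hy => ?_⟩
    have hy' : ∀ i, MvPolynomial.map (residue A) (H i) ∈ y.asHomogeneousIdeal.toIdeal := fun i => by
      simpa using hy i.succ
    have hyj := h2 y hy'
    have h0 : MvPolynomial.map (residue A) H0 ∈ y.asHomogeneousIdeal.toIdeal := by simpa using hy 0
    rw [hH0] at h0
    by_contra hcon
    exact hhT y (hfin.mem_toFinset.2 ⟨fun e ⟨i, he⟩ => he ▸ hy' i,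
      show ptDim (CohB1.ProjSpace.toSpec N (ResidueField A)) (pt y) + j = N by omega⟩) (y.isPrime.mem_of_pow_mem _ h0)

end Groth.Agent.Et18.Thick
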