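import Groth.Agent.Et18.Thick.FlatCI
import Groth.Agent.Et18.Thick.Forms
import Groth.Agent.ProjLib.ClosedSubscheme
import Groth.Agent.Coherent.ProjSpaceBase
import Groth.Agent.Coherent.ProjSpaceFinite
import Groth.Agent.H8Constr.AffineChart
import Groth.Agent.FlatMorDim.Semicont
import Groth.Agent.AlgSpLib.ModifCover
import Groth.Agent.EGA43.FlatDescent.SchemeOpen

/-! Flat projective thickenings: a closed subscheme of `P^N_A` with fibres of dimension `≤ n` lies in a
complete intersection which is flat over `A` with fibres of dimension `≤ n`. -/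

set_option autoImplicit false
set_option linter.style.haveILetI false

universe u

open CategoryTheory CategoryTheory.Limits AlgebraicGeometry MvPolynomial IsLocalRing HomogeneousLocalization
  TopologicalSpace

namespace Groth.Agent.Et18.Thick

open Groth.Agent Groth.Agent.DimLib Groth.Agent.DimLib.PN

theorem dim_le_fiber {W : Type u} [TopologicalSpace W] {X S : Scheme.{u}} (f : X ⟶ S) (s : S) (ψ : W → X)
    (hψ : Topology.IsInducing ψ) (hs : ∀ w, f (ψ w) = s) :
    topologicalKrullDim W ≤ topologicalKrullDim ↥(f.fiber s) := by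
  let ψ' : W → f ⁻¹' {s} := fun w => ⟨ψ w, hs w⟩
  have h : Topology.IsInducing ψ' := Topology.IsInducing.of_comp
    (hψ.continuous.subtype_mk _) continuous_subtype_val hψ
  exact ((f.fiberHomeo s).symm.isInducing.comp h).topologicalKrullDim_le

variable {N : ℕ} {A : Type u} [CommRing A]

theorem ker_isHomogeneous {B : Type u} [CommRing B] [Algebra A B] {ℬ : ℕ → Submodule A B} [GradedAlgebra ℬ]
    (φ : CohB1.polyGrading N A →+*ᵍ ℬ) : (RingHom.ker φ.toRingHom).IsHomogeneous (CohB1.polyGrading N A) := by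
  intro i a ha
  show φ (DirectSum.decompose (CohB1.polyGrading N A) a i) = 0
  rw [GradedRingHom.map_directSumDecompose, show φ a = 0 from ha, DirectSum.decompose_zero]
  rfl

/-- Primes containing the kernel come from the source. -/
theorem mem_range_map {B : Type u} [CommRing B] [Algebra A B] {ℬ : ℕ → Submodule A B} [GradedAlgebra ℬ]
    (φ : CohB1.polyGrading N A →+*ᵍ ℬ) (hs : Function.Surjective φ)
    (hφ : HomogeneousIdeal.irrelevant ℬ ≤ (HomogeneousIdeal.irrelevant (CohB1.polyGrading N A)).map φ)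
    (p : ProjectiveSpectrum (CohB1.polyGrading N A)) (hp : RingHom.ker φ.toRingHom ≤ p.asHomogeneousIdeal.toIdeal) :
    ∃ z : ↥(Proj ℬ), Proj.map φ hφ z = p := by
  haveI := p.isPrime
  have hcomap : (p.asHomogeneousIdeal.toIdeal.map φ.toRingHom).comap φ.toRingHom = p.asHomogeneousIdeal.toIdeal := by
    rw [Ideal.comap_map_of_surjective φ.toRingHom hs, ← RingHom.ker_eq_comap_bot, sup_eq_left.2 hp]
  have hm : (p.asHomogeneousIdeal.map φ).toIdeal = p.asHomogeneousIdeal.toIdeal.map φ.toRingHom := rfl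
  let z : ProjectiveSpectrum ℬ :=
    { asHomogeneousIdeal := p.asHomogeneousIdeal.map φ
      isPrime := by
        rw [hm]
        exact Ideal.map_isPrime_of_surjective hs hp
      not_irrelevant_le := fun h => p.not_irrelevant_le fun a ha => by
        show a ∈ p.asHomogeneousIdeal.toIdeal
        rw [← hcomap, Ideal.mem_comap, ← hm]
        refine h ?_
        show φ a ∈ HomogeneousIdeal.irrelevant ℬ
        change a ∈ HomogeneousIdeal.irrelevant (CohB1.polyGrading N A) at ha
        rw [HomogeneousIdeal.mem_irrelevant_iff] at ha ⊢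
        rw [GradedRing.proj_apply] at ha ⊢
        rw [← GradedRingHom.map_directSumDecompose, ha, map_zero] }
  exact ⟨z, ProjectiveSpectrum.ext (HomogeneousIdeal.toIdeal_injective hcomap)⟩

section Chart

variable [IsLocalRing A] [IsNoetherianRing A]

theorem flat_of_surjective {σ : Type} [Finite σ] {r n : ℕ} (hσ : r + n = Nat.card σ) (f : Fin r → MvPolynomial σ A)
    (hdim : ringKrullDim (MvPolynomial σ (ResidueField A) ⧸
      Ideal.span (Set.range fun i => MvPolynomial.map (residue A) (f i))) ≤ n)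
    {R : Type u} [CommRing R] [Algebra A R] (φ : MvPolynomial σ A →ₐ[A] R) (hs : Function.Surjective φ)
    (hker : RingHom.ker φ.toRingHom = Ideal.span (Set.range f)) (q : Ideal R) [q.IsPrime]
    (hq : maximalIdeal A ≤ q.comap (algebraMap A R)) : Module.Flat A (Localization.AtPrime q) := by
  let e : (MvPolynomial σ A ⧸ Ideal.span (Set.range f)) ≃ₐ[A] R :=
    (Ideal.quotientEquivAlgOfEq A hker.symm).trans (Ideal.quotientKerAlgEquivOfSurjective hs)
  let q' := q.comap e.toRingEquiv.toRingHom
  haveI := flat_localization_ci hσ f hdim q' (fun a ha => by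
    show e (algebraMap A _ a) ∈ q
    rw [e.commutes]
    exact hq ha)
  have hM : Submonoid.map e.toRingEquiv.toMonoidHom q'.primeCompl = q.primeCompl := by
    ext z
    constructor
    · rintro ⟨y, hy, rfl⟩
      exact hy
    · intro hz
      exact ⟨e.symm z, show e (e.symm z) ∉ q by rwa [e.apply_symm_apply], e.apply_symm_apply z⟩
  let ε := IsLocalization.ringEquivOfRingEquiv (Localization.AtPrime q') (Localization.AtPrime q) e.toRingEquiv hM
  have hε : ∀ a, ε (algebraMap A _ a) = algebraMap A (Localization.AtPrime q) a := fun a => by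
    rw [IsScalarTower.algebraMap_apply A (MvPolynomial σ A ⧸ Ideal.span (Set.range f)) (Localization.AtPrime q'),
      IsLocalization.ringEquivOfRingEquiv_eq, IsScalarTower.algebraMap_apply A R (Localization.AtPrime q)]
    exact congrArg _ (e.commutes a)
  exact Module.Flat.of_linearEquiv (AlgEquiv.ofRingEquiv (f := ε) hε).toLinearEquiv.symm

end Chart

theorem dehomX_X_self (l : Fin (N + 1)) : H8Constr.dehomX N A l (X l) = 1 := by
  simp [H8Constr.dehomX]

theorem chartHom_dehomX (l : Fin (N + 1)) {m : ℕ} {a : MvPolynomial (Fin (N + 1)) A}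
    (ha : a ∈ CohB1.polyGrading N A (m • 1)) :
    H8Constr.chartHom N A l (H8Constr.dehomX N A l a) =
      Away.mk (CohB1.polyGrading N A) (ProjLib.X_mem_polyGrading N A l) m a ha := by
  have hm : a ∈ CohB1.polyGrading N A m := by simpa using ha
  refine HomogeneousLocalization.val_injective _ ?_
  rw [H8Constr.val_chartHom_dehomX, H8Constr.aeval_homogeneous _ ((mem_homogeneousSubmodule m a).mp hm),
    Away.val_mk, Localization.mk_eq_mk', IsLocalization.eq_mk'_iff_mul_eq, map_pow, mul_comm, ← mul_assoc,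
    ← mul_pow, IsLocalization.Away.mul_invSelf, one_pow, one_mul]

/-- The kernel of a chart of the complete intersection. -/
theorem chart_ker {r : ℕ} (H : Fin r → MvPolynomial (Fin (N + 1)) A) (d : Fin r → ℕ)
    (hd : ∀ j, (H j).IsHomogeneous (d j))
    (hK : (Ideal.span (Set.range H)).IsHomogeneous (CohB1.polyGrading N A)) (l : Fin (N + 1)) :
    letI := ProjLib.quotGradedAlgebra (CohB1.polyGrading N A) hK
    RingHom.ker ((Away.map (ProjLib.quotGradedHom (CohB1.polyGrading N A) (I := Ideal.span (Set.range H))) (X l)).comp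
        (H8Constr.chartHom N A l)) =
      Ideal.span (Set.range fun j => H8Constr.dehomX N A l (H j)) := by
  letI := ProjLib.quotGradedAlgebra (CohB1.polyGrading N A) hK
  apply le_antisymm
  · intro x hx
    obtain ⟨m, a, ha, hxa⟩ := Away.mk_surjective (CohB1.polyGrading N A) (ProjLib.X_mem_polyGrading N A l)
      (H8Constr.chartHom N A l x)
    have hxe : x = H8Constr.dehomX N A l a :=
      (H8Constr.chartHom_bijective N A l).1 (hxa.symm.trans (chartHom_dehomX l ha).symm)
    rw [RingHom.mem_ker, RingHom.comp_apply, ← hxa, Away.map_mk _ _ (ProjLib.X_mem_polyGrading N A l),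
      ProjLib.away_mk_eq_zero_iff] at hx
    obtain ⟨k, hk⟩ := hx
    have hmem : X l ^ k * a ∈ Ideal.span (Set.range H) := Ideal.Quotient.eq_zero_iff_mem.1 (by
      rw [map_mul, map_pow]; exact hk)
    have h2 := Ideal.mem_map_of_mem (H8Constr.dehomX N A l).toRingHom hmem
    rw [Ideal.map_span, ← Set.range_comp] at h2
    rw [hxe]
    change H8Constr.dehomX N A l (X l ^ k * a) ∈ _ at h2
    rw [map_mul, map_pow, dehomX_X_self, one_pow, one_mul] at h2
    exact h2
  · rw [Ideal.span_le]
    rintro _ ⟨j, rfl⟩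
    have hj : H j ∈ CohB1.polyGrading N A (d j • 1) := by
      rw [smul_eq_mul, mul_one]; exact (mem_homogeneousSubmodule _ _).2 (hd j)
    show (Away.map _ (X l)) (H8Constr.chartHom N A l (H8Constr.dehomX N A l (H j))) = 0
    rw [chartHom_dehomX l hj, Away.map_mk _ _ (ProjLib.X_mem_polyGrading N A l), ProjLib.away_mk_eq_zero_iff]
    exact ⟨0, by
      rw [pow_zero, one_mul]
      exact Ideal.Quotient.eq_zero_iff_mem.2 (Ideal.subset_span (Set.mem_range_self j))⟩

/-- A closed subscheme with small closed fibre lies in a flat complete intersection. -/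
theorem exists_thickening [IsLocalRing A] [IsNoetherianRing A] (n : ℕ) {X : Scheme.{u}}
    (i : X ⟶ CohB1.ProjSpace N A) [IsClosedImmersion i]
    (hdim : topologicalKrullDim ↥((i ≫ CohB1.ProjSpace.toSpec N A).fiber (closedPoint A)) ≤ n) :
    ∃ (Z : Scheme.{u}) (j : Z ⟶ CohB1.ProjSpace N A) (g : X ⟶ Z),
      IsClosedImmersion j ∧ IsClosedImmersion g ∧ g ≫ j = i ∧
      Flat (j ≫ CohB1.ProjSpace.toSpec N A) ∧
      ∀ s, topologicalKrullDim ↥((j ≫ CohB1.ProjSpace.toSpec N A).fiber s) ≤ n := by
  classical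
  set k := ResidueField A
  let πA : MvPolynomial (Fin (N + 1)) A →+* MvPolynomial (Fin (N + 1)) k := MvPolynomial.map (residue A)
  let pk := Proj.map (Coherent.polyGradedMap N A k) (Coherent.polyGradedMap_irrelevant N A k)
  let s₀ : ↥(Spec (CommRingCat.of A)) := closedPoint A
  have sq := Coherent.isPullback_projSpace N A k
  haveI : IsClosedImmersion (Spec.map (CommRingCat.ofHom (algebraMap A k))) :=
    IsClosedImmersion.spec_of_surjective _ residue_surjective
  haveI hpkc : IsClosedImmersion pk := MorphismProperty.of_isPullback sq.flip inferInstance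
  have hpks : ∀ w, CohB1.ProjSpace.toSpec N A (pk w) = s₀ := fun w => by
    have e := congrArg (fun f : CohB1.ProjSpace N k ⟶ Spec (CommRingCat.of A) => f w) sq.w
    refine e.trans (PrimeSpectrum.ext ?_)
    haveI := (CohB1.ProjSpace.toSpec N k w).isPrime
    show Ideal.comap (algebraMap A k) (CohB1.ProjSpace.toSpec N k w).asIdeal = maximalIdeal A
    rw [(Ideal.eq_bot_or_top _).resolve_right ((CohB1.ProjSpace.toSpec N k w).isPrime.ne_top),
      ← RingHom.ker_eq_comap_bot]
    exact ker_residue
  have hpk : ∀ w : ProjectiveSpectrum (CohB1.polyGrading N k),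
      (pk w).asHomogeneousIdeal.toIdeal = w.asHomogeneousIdeal.toIdeal.comap πA := fun w => rfl
  -- the homogeneous ideal
  let sX : Finset (MvPolynomial (Fin (N + 1)) A) := Finset.univ.image MvPolynomial.X
  have hsX : ∀ f ∈ sX, f ∈ CohB1.polyGrading N A 1 := fun f hf => by
    obtain ⟨l, -, rfl⟩ := Finset.mem_image.1 hf
    exact ProjLib.X_mem_polyGrading N A l
  have hsX' : (HomogeneousIdeal.irrelevant (CohB1.polyGrading N A)).toIdeal = Ideal.span (sX : Set _) := by
    rw [Finset.coe_image, Finset.coe_univ, Set.image_univ]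
    refine le_antisymm (ProjLib.irrelevant_le_span_X N A) (Ideal.span_le.2 ?_)
    rintro _ ⟨l, rfl⟩
    exact HomogeneousIdeal.mem_irrelevant_of_mem _ one_pos (ProjLib.X_mem_polyGrading N A l)
  haveI : @IsClosedImmersion X (Proj (CohB1.polyGrading N A)) i := ‹IsClosedImmersion i›
  obtain ⟨B, _, _, ℬ, _, φ, hφs, hφ, e, he⟩ :=
    ProjLib.exists_quotient_of_closedImmersion (CohB1.polyGrading N A) hsX hsX' i
  let J := RingHom.ker φ.toRingHom
  have hJ : J.IsHomogeneous (CohB1.polyGrading N A) := ker_isHomogeneous φ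
  set n' := min n N with hn'
  have hC : ∀ y : ProjectiveSpectrum (CohB1.polyGrading N k), J.map πA ≤ y.asHomogeneousIdeal.toIdeal →
      ptDim (CohB1.ProjSpace.toSpec N k) (pt y) ≤ n' := by
    intro y hy
    refine le_min ?_ (ptDim_le y)
    let C₀ : Set ↥(CohB1.ProjSpace N k) := closure {pt y}
    have hCr : ∀ w ∈ C₀, pk w ∈ Set.range i := by
      intro w hw
      have hle := (PN.specializes_iff y w).1 (specializes_iff_mem_closure.2 hw)
      obtain ⟨z, hz⟩ := mem_range_map φ hφs hφ (pk w) (by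
        rw [hpk]; exact Ideal.map_le_iff_le_comap.1 (hy.trans hle))
      refine ⟨e.inv z, ?_⟩
      rw [← he]
      show Proj.map φ hφ (e.hom (e.inv z)) = _
      rw [← Scheme.Hom.comp_apply e.inv e.hom, Iso.inv_hom_id]
      exact hz
    choose ψ hψ using fun w : C₀ => hCr w w.2
    have hcomp : i ∘ ψ = pk ∘ Subtype.val := funext hψ
    have hind : Topology.IsInducing ψ := by
      refine (i.isClosedEmbedding.isInducing.of_comp_iff).1 ?_
      rw [hcomp]
      exact pk.isClosedEmbedding.isInducing.comp Topology.IsInducing.subtypeVal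
    have h1 := dim_le_fiber (i ≫ CohB1.ProjSpace.toSpec N A) s₀ ψ hind fun w => by
      rw [Scheme.Hom.comp_apply, hψ]; exact hpks _
    have h2 := topologicalKrullDim_eq_ptDim_of_isGenericPoint (CohB1.ProjSpace.toSpec N k)
      (show IsGenericPoint (pt y) C₀ from rfl)
    have h3 := (h2.ge.trans h1).trans hdim
    exact_mod_cast h3
  obtain ⟨H, d, hH, hHdim⟩ := exists_forms J hJ n' (N - n') (Nat.sub_add_cancel (min_le_right _ _)) hC
  -- the complete intersection
  let K := Ideal.span (Set.range H)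
  have hK : K.IsHomogeneous (CohB1.polyGrading N A) := Ideal.homogeneous_span _ _ fun x hx => by
    obtain ⟨j, rfl⟩ := hx
    exact ⟨d j, (mem_homogeneousSubmodule _ _).2 (hH j).2.1⟩
  have hKJ : K ≤ J := Ideal.span_le.2 (by rintro _ ⟨j, rfl⟩; exact (hH j).2.2)
  letI := ProjLib.quotGradedAlgebra (CohB1.polyGrading N A) hK
  let 𝒵 := ProjLib.quotGrading (CohB1.polyGrading N A) K
  let φ' := ProjLib.quotGradedHom (CohB1.polyGrading N A) (I := K)
  have hφ' : HomogeneousIdeal.irrelevant 𝒵 ≤ (HomogeneousIdeal.irrelevant (CohB1.polyGrading N A)).map φ' :=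
    toIdeal_le_toIdeal_iff.mp (ProjLib.irrelevant_le_of_homogeneous _ fun m hm b ⟨a, ha, hab⟩ =>
      hab ▸ Ideal.mem_map_of_mem φ' (ProjLib.mem_irrelevant_of_pos (CohB1.polyGrading N A) hm ha))
  let χ : 𝒵 →+*ᵍ ℬ :=
    { toRingHom := Ideal.Quotient.lift K φ.toRingHom fun a ha => hKJ ha
      map_mem := fun {m b} hb => by
        obtain ⟨a, ha, rfl⟩ := hb
        exact φ.map_mem ha }
  have hχφ : χ.comp φ' = φ := GradedRingHom.ext fun a => rfl
  have hχ : HomogeneousIdeal.irrelevant ℬ ≤ (HomogeneousIdeal.irrelevant 𝒵).map χ := by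
    refine hφ.trans (toIdeal_le_toIdeal_iff.mp ?_)
    show (HomogeneousIdeal.irrelevant (CohB1.polyGrading N A)).toIdeal.map φ.toRingHom ≤
      (HomogeneousIdeal.irrelevant 𝒵).toIdeal.map χ.toRingHom
    rw [Ideal.map_le_iff_le_comap, hsX', Ideal.span_le]
    intro f hf
    exact Ideal.mem_map_of_mem χ.toRingHom (HomogeneousIdeal.mem_irrelevant_of_mem _ one_pos
      (show φ' f ∈ 𝒵 1 from φ'.map_mem (hsX f hf)))
  let j := Proj.map φ' hφ'
  haveI hj : IsClosedImmersion j :=
    ProjLib.map_isClosedImmersion φ' hφ' fun m _ b ⟨a, ha, hab⟩ => ⟨a, ha, hab⟩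
  have hcomp : Proj.map χ hχ ≫ j = Proj.map φ hφ := by
    rw [← Proj.map_comp]
    congr 1
  let g : X ⟶ Proj 𝒵 := e.hom ≫ Proj.map χ hχ
  have hgj : g ≫ j = i := by rw [Category.assoc, hcomp, he]
  haveI : IsClosedImmersion (g ≫ j) := hgj ▸ inferInstance
  have hg : IsClosedImmersion g := IsClosedImmersion.of_comp g j
  let f := j ≫ CohB1.ProjSpace.toSpec N A
  haveI : IsProper (CohB1.ProjSpace.toSpec N A) := Coherent.isProper_projSpace_toSpec (n := N) (R := A)
  haveI : IsProper f := MorphismProperty.comp_mem @IsProper j (CohB1.ProjSpace.toSpec N A) (inferInstanceAs (IsProper j)) (Coherent.isProper_projSpace_toSpec (n := N) (R := A))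
  haveI : CompactSpace ↥(Proj 𝒵) := QuasiCompact.compactSpace_of_compactSpace f
  -- the closed fibre
  have hzero : ∀ z, K ≤ (j z).asHomogeneousIdeal.toIdeal := fun z a ha => by
    show φ' a ∈ (z : ProjectiveSpectrum 𝒵).asHomogeneousIdeal.toIdeal
    rw [show φ' a = 0 from Ideal.Quotient.eq_zero_iff_mem.2 ha]
    exact zero_mem _
  have hfib₀ : topologicalKrullDim ↥(f.fiber s₀) ≤ (n' : WithBot ℕ∞) := by
    let C : Set ↥(CohB1.ProjSpace N k) := ProjectiveSpectrum.zeroLocus _ (Set.range fun l => πA (H l))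
    haveI : IsLocalHom (algebraMap A k) := IsLocalHom.of_surjective _ residue_surjective
    have hw : ∀ z : (f ⁻¹' {s₀} : Set ↥(Proj 𝒵)), ∃ w : C, pk w.1 = j z := by
      intro z
      have hz : CohB1.ProjSpace.toSpec N A (j z) = s₀ := z.2
      obtain ⟨w, hw, -⟩ := Scheme.exists_preimage_of_isPullback sq (j z) (closedPoint k)
        (hz.trans (IsLocalRing.comap_closedPoint (algebraMap A k)).symm)
      refine ⟨⟨w, ?_⟩, hw⟩
      rintro _ ⟨l, rfl⟩
      have h1 : H l ∈ (pk w).asHomogeneousIdeal.toIdeal := hw ▸ hzero z (Ideal.subset_span (Set.mem_range_self l))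
      exact h1
    choose ψ hψ using hw
    have hind : Topology.IsInducing ψ := by
      refine ((pk.isClosedEmbedding.isInducing.comp Topology.IsInducing.subtypeVal).of_comp_iff).1 ?_
      convert j.isClosedEmbedding.isInducing.comp Topology.IsInducing.subtypeVal using 1
      exact funext hψ
    refine (((hind.comp (f.fiberHomeo s₀).isInducing)).topologicalKrullDim_le).trans ?_
    rw [topologicalKrullDim_closed_eq_iSup (CohB1.ProjSpace.toSpec N k)
      (ProjectiveSpectrum.isClosed_zeroLocus _ _)]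
    refine iSup_le fun w => ?_
    exact_mod_cast hHdim w.1 fun l => w.2 ⟨l, rfl⟩
  refine ⟨Proj 𝒵, j, g, hj, hg, hgj, ?_, fun s => ?_⟩
  swap
  · have h := FlatMorDim.isOpen_fiber_dim_le f (n : WithBot ℕ∞)
    refine (IsLocalRing.specializes_closedPoint (R := A) s).mem_open h (hfib₀.trans ?_)
    exact_mod_cast min_le_left n N
  -- flatness
  show Flat f
  refine AlgSpLib.flat_of_flat_stalkMap_closed f fun z hz => ?_
  have hfz : f z = s₀ := by
    have h1 : IsClosed ({f z} : Set ↥(Spec (CommRingCat.of A))) := by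
      simpa using f.isClosedMap _ hz
    exact PrimeSpectrum.ext (IsLocalRing.eq_maximalIdeal ((PrimeSpectrum.isClosed_singleton_iff_isMaximal _).1 h1))
  obtain ⟨l, hl⟩ : ∃ l, j z ∈ Proj.basicOpen (CohB1.polyGrading N A) (MvPolynomial.X l) := by
    have := Proj.iSup_basicOpen_eq_top (CohB1.polyGrading N A)
      (MvPolynomial.X : Fin (N + 1) → MvPolynomial (Fin (N + 1)) A) (ProjLib.irrelevant_le_span_X N A)
    exact Opens.mem_iSup.1 (this.ge (Opens.mem_top (j z)))
  have hXl := ProjLib.X_mem_polyGrading N A l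
  let R := Away 𝒵 (φ' (MvPolynomial.X l))
  let ch := Proj.awayι 𝒵 (φ' (MvPolynomial.X l)) (φ'.map_mem hXl) one_pos
  obtain ⟨q, hq⟩ : z ∈ Set.range ch := by
    have h1 : z ∈ j ⁻¹ᵁ Proj.basicOpen (CohB1.polyGrading N A) (MvPolynomial.X l) := hl
    rw [Proj.map_preimage_basicOpen] at h1
    rw [← Scheme.Hom.coe_opensRange, Proj.opensRange_awayι]
    exact h1
  let ρ : A →+* R := (Away.map φ' (MvPolynomial.X l)).comp (ProjLib.toAway N A (MvPolynomial.X l))
  have hchart : ch ≫ f = Spec.map (CommRingCat.ofHom ρ) := by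
    show Proj.awayι 𝒵 (φ' (MvPolynomial.X l)) (φ'.map_mem hXl) one_pos ≫ Proj.map φ' hφ' ≫ _ = _
    rw [Proj.awayι_comp_map_assoc φ' hφ' one_pos _ hXl, ProjLib.awayι_toSpec N A hXl one_pos, ← Spec.map_comp]
    rfl
  letI : Algebra A R := ρ.toAlgebra
  let σ := {l' : Fin (N + 1) // l' ≠ l}
  let ψl : MvPolynomial σ A →ₐ[A] R :=
    { (Away.map φ' (MvPolynomial.X l)).comp (H8Constr.chartHom N A l) with
      commutes' := fun a => congrArg (Away.map φ' (MvPolynomial.X l))
        (MvPolynomial.eval₂Hom_C _ _ a) }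
  have hψs : Function.Surjective ψl :=
    (ProjLib.away_map_surjective φ' one_pos hXl fun m _ b ⟨a, ha, hab⟩ => ⟨a, ha, hab⟩).comp
      (H8Constr.chartHom_bijective N A l).2
  let fl : Fin (N - n') → MvPolynomial σ A := fun a => H8Constr.dehomX N A l (H a)
  have hker : RingHom.ker ψl.toRingHom = Ideal.span (Set.range fl) :=
    chart_ker H d (fun a => (hH a).2.1) hK l
  have hσ : N - n' + n' = Nat.card σ := by
    rw [Nat.sub_add_cancel (min_le_right _ _), Nat.card_eq_fintype_card, Fintype.card_subtype_compl,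
      Fintype.card_subtype_eq, Fintype.card_fin, Nat.add_sub_cancel]
  -- dimension of the chart of the closed fibre
  let Jl : Ideal (MvPolynomial σ k) := Ideal.span (Set.range fun a => MvPolynomial.map (residue A) (fl a))
  have hdiml : ringKrullDim (MvPolynomial σ k ⧸ Jl) ≤ (n' : WithBot ℕ∞) := by
    let τ : MvPolynomial σ A →+* MvPolynomial σ k ⧸ Jl :=
      (Ideal.Quotient.mk Jl).comp (MvPolynomial.map (residue A))
    have hτker : RingHom.ker ψl.toRingHom ≤ RingHom.ker τ := by
      rw [hker, Ideal.span_le]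
      rintro _ ⟨a, rfl⟩
      exact Ideal.Quotient.eq_zero_iff_mem.2 (Ideal.subset_span (Set.mem_range_self a))
    let ν : R →+* MvPolynomial σ k ⧸ Jl := RingHom.liftOfSurjective ψl.toRingHom hψs ⟨τ, hτker⟩
    have hν : ∀ x, ν (ψl x) = τ x := fun x => RingHom.liftOfRightInverse_comp_apply _ _ _ ⟨τ, hτker⟩ x
    have hνs : Function.Surjective ν := fun y => by
      obtain ⟨y, rfl⟩ := Ideal.Quotient.mk_surjective y
      obtain ⟨x, rfl⟩ := MvPolynomial.map_surjective _ residue_surjective y
      exact ⟨ψl x, hν x⟩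
    haveI : IsClosedImmersion (Spec.map (CommRingCat.ofHom ν)) := IsClosedImmersion.spec_of_surjective _ hνs
    let W := Spec (CommRingCat.of (MvPolynomial σ k ⧸ Jl))
    rw [← PrimeSpectrum.topologicalKrullDim_eq_ringKrullDim]
    refine (dim_le_fiber f s₀ (fun w : W => ch (Spec.map (CommRingCat.ofHom ν) w))
      (ch.isOpenEmbedding.isInducing.comp (Spec.map (CommRingCat.ofHom ν)).isClosedEmbedding.isInducing)
      fun w => ?_).trans hfib₀
    rw [← Scheme.Hom.comp_apply, hchart]
    refine PrimeSpectrum.ext ?_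
    haveI : (w : PrimeSpectrum (MvPolynomial σ k ⧸ Jl)).asIdeal.IsPrime :=
      (w : PrimeSpectrum (MvPolynomial σ k ⧸ Jl)).isPrime
    refine le_antisymm (le_maximalIdeal ((Spec.map (CommRingCat.ofHom ρ) _).isPrime.ne_top)) fun a ha => ?_
    show ν (ρ a) ∈ (w : PrimeSpectrum (MvPolynomial σ k ⧸ Jl)).asIdeal
    rw [show ρ a = ψl (algebraMap A _ a) from (ψl.commutes a).symm, hν]
    show Ideal.Quotient.mk Jl (MvPolynomial.map (residue A) (MvPolynomial.C a)) ∈ _
    rw [MvPolynomial.map_C, (residue_eq_zero_iff a).2 ha, MvPolynomial.C_0, map_zero]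
    exact zero_mem _
  haveI : (q : PrimeSpectrum R).asIdeal.IsPrime := (q : PrimeSpectrum R).isPrime
  have hqm : maximalIdeal A ≤ (q : PrimeSpectrum R).asIdeal.comap (algebraMap A R) := by
    have h1 : Spec.map (CommRingCat.ofHom ρ) q = s₀ := by rw [← hchart, Scheme.Hom.comp_apply, hq, hfz]
    exact (congrArg PrimeSpectrum.asIdeal h1).ge
  have hflat := flat_of_surjective hσ fl hdiml ψl hψs hker (q : PrimeSpectrum R).asIdeal hqm
  have h2 : ((Spec.map (CommRingCat.ofHom ρ)).stalkMap q).hom.Flat := by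
    rw [RingHom.Flat.respectsIso.arrow_mk_iso_iff (Scheme.arrowStalkMapSpecIso (CommRingCat.ofHom ρ) q)]
    exact (EGA43.FlatDescent.flat_localRingHom_iff (R := A) (S := R) _ _ rfl).2 hflat
  rw [← hchart, Scheme.Hom.stalkMap_comp] at h2
  subst hq
  have h3 : ((f.stalkMap (ch q)) ≫ ch.stalkMap q).hom.Flat := h2
  exact (RingHom.Flat.respectsIso.cancel_right_isIso (f.stalkMap (ch q)) (ch.stalkMap q)).1 h3

end Groth.Agent.Et18.Thick
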