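import Groth.Agent.Et18.Thick.Main

/-! `P^N` over an affine base. -/

set_option autoImplicit false
set_option linter.style.haveILetI false

universe u

open CategoryTheory CategoryTheory.Limits AlgebraicGeometry

namespace Groth.Agent.Et18.Thick

theorem exists_iso (N : ℕ) (A : Type u) [CommRing A] :
    ∃ e : CohB1.ProjSpace N A ≅ CohB1.ProjSpaceOver N (Spec (CommRingCat.of A)),
      e.hom ≫ CohB1.ProjSpaceOver.toBase N (Spec (CommRingCat.of A)) = CohB1.ProjSpace.toSpec N A := by
  letI : Algebra (ULift.{u} ℤ) A := ((algebraMap ℤ A).comp ULift.ringEquiv.toRingHom).toAlgebra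
  have sq := Coherent.isPullback_projSpace N (ULift.{u} ℤ) A
  have e : Spec.map (CommRingCat.ofHom (algebraMap (ULift.{u} ℤ) A)) =
      specULiftZIsTerminal.from (Spec (CommRingCat.of A)) := specULiftZIsTerminal.hom_ext _ _
  rw [e] at sq
  exact ⟨sq.isoPullback, sq.isoPullback_hom_snd⟩

theorem fiber_dim_le_of_iso {X Y S : Scheme.{u}} (e : X ⟶ Y) [IsIso e] (f : X ⟶ S) (g : Y ⟶ S) (h : e ≫ g = f)
    (s : S) : topologicalKrullDim ↥(g.fiber s) ≤ topologicalKrullDim ↥(f.fiber s) := by
  refine le_trans (Topology.IsInducing.topologicalKrullDim_le (g.fiberHomeo s).isInducing) ?_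
  exact dim_le_fiber f s (fun y : (g ⁻¹' {s} : Set Y) => inv e y.1)
    ((inv e).isOpenEmbedding.isInducing.comp Topology.IsInducing.subtypeVal) fun y => by
      rw [← Scheme.Hom.comp_apply, ← h, IsIso.inv_hom_id_assoc]
      exact y.2

end Groth.Agent.Et18.Thick
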